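import Cfsg.Agent.INV.STD2.Big1

/-!
# STD2/Big : `|E| ≥ 4` is impossible.  Everything happens in `G₀ = C(η)`; `R = R₁ = V1 E`.
-/

set_option autoImplicit false
open Cfsg Subgroup CL.MSS CL.PComp CL.Gold CL.SqField
open scoped commutatorElement

namespace CL.St2

universe u

variable {F : Type} [Field F] [Fintype F] [CharP F 2] {q : ℕ} {hF : Fintype.card F = q ^ 2}
  {G : Type u} [Group G] [Finite G]

/-- generation by centralizers modulo a normal Sylow 2-subgroup -/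
theorem Bg.gen_mod {W E M H : Subgroup G} (hE : ∀ e ∈ E, e * e = 1) (h4 : 4 ≤ Nat.card E)
    (hWE : W ⊓ E = ⊥) (hEW : E ≤ normalizer (W : Set G)) (hM : SylIn 2 W M)
    (hMW : M ≤ normalizer (W : Set G)) (hEM : E ≤ normalizer (M : Set G)) (hH : W ≤ H)
    (h : ∀ e ∈ E, e ≠ 1 → ∀ m ∈ M, ⁅m, e⁆ ∈ W → m ∈ H) : M ≤ H := by
  have := BG.abelian_quo (A := E) ⟨⟨fun a b => Subtype.ext (Sl.comm hE a.2 b.2)⟩⟩ W
  refine BG.le_of_quo_le hMW hH (coprime_le_of_forall_centralizer_le (BG.quo E W) _ _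
    (fun hc => Gold.not_isCyclic_of_four_le hE h4
      ((BG.quoEquivOfInfEqBot hEW hWE).isCyclic.2 hc)) (BG.quo_norms W hEM) ?_ ?_)
  · obtain ⟨n, e⟩ := IsPGroup.iff_card.1 (BG.isPGroup_quo (Sl.pgroup hE) W)
    rw [e, BG.card_quo hMW]
    exact ((Nat.prime_two.coprime_iff_not_dvd).2 hM.not_dvd_relIndex).pow_left n
  · intro a ha h1 b hb
    obtain ⟨e, he, rfl⟩ := (BG.mem_quo_of_le hEW).1 ha
    obtain ⟨m, hm, rfl⟩ := (BG.mem_quo_of_le hMW).1 hb.1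
    exact BG.coset_mem_quo W (h e he (fun e1 => h1 (e1 ▸ BG.coset_one W)) m hm
      ((BG.coset_commute_iff (hMW hm) (hEW he)).1 (mem_centralizer_singleton_iff.1 hb.2)))

omit [Finite G] in
theorem Bg.comm {V T : Subgroup G} (h : V.relIndex T ∣ 2) (hc : T ≤ centralizer (V : Set G)) :
    ∀ x ∈ T, ∀ y ∈ T, x * y = y * x := fun x hx y hy => by
  obtain ⟨a, ha, h⟩ := relIndex_dvd_two_iff.1 h
  rcases h x hx with h1 | h1
  · rcases h y hy with h2 | h2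
    · have e1 : Commute (x * a) a⁻¹ := hc (T.inv_mem ha) _ h1
      have e2 : Commute (y * a) a⁻¹ := hc (T.inv_mem ha) _ h2
      have e3 : Commute (x * a) (y * a) := hc (T.mul_mem hy ha) _ h1
      simpa using ((e3.mul_right e1).mul_left (e2.symm.mul_right (Commute.refl _))).eq
    · exact (hc hx _ h2).symm
  · exact hc hy _ h1

namespace St1

variable {Γ : Su hF G} (Λ : St1 Γ)

omit [Finite G] in
theorem bg_R : Λ.R = Λ.V1 ⊔ Γ.B := by rw [Su.B, ← sup_assoc, sup_eq_left.2 Λ.le, R]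

theorem bg_sw {w : G} (hw : w * w = 1) (hV : w ∈ centralizer (Γ.V : Set G))
    (h1 : w •ᶜ Γ.B = Λ.V1) {v : G} (hv : v ∈ Γ.V) : ∃ a ∈ Λ.R, a * w * a⁻¹ = w * v := by
  have hi : w⁻¹ = w := inv_eq_of_mul_eq_one_right hw
  have m : ∀ e ∈ Γ.E, w * e * w⁻¹ ∈ Λ.V1 := fun e he => h1 ▸ conj_mem_cj (mem_sup_right he)
  have c : ∀ e, w * (w * e * w⁻¹) * w⁻¹ = e := fun e => by
    rw [show w * (w * e * w⁻¹) * w⁻¹ = w * w * e * (w * w)⁻¹ by group, hw, one_mul, inv_one, mul_one]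
  have s : ∀ e ∈ Γ.E, ∀ e' ∈ Γ.E,
      Λ.lam e * Λ.bar (w * e' * w⁻¹) = Λ.lam e' * Λ.bar (w * e * w⁻¹) := fun e he e' he' => by
    have h := congrArg (fun g => w * g * w⁻¹) (Λ.cE _ (m e' he') e he)
    rw [← conj_mul, ← conj_mul, ← conj_inv, c, Λ.bg_swap (m e he) he', mul_assoc,
      mul_inv_cancel_right, ← conj_mul (a := Γ.z _), ← hV _ (Γ.z_mem _), mul_inv_cancel_right,
      mul_right_cancel_iff] at h
    exact (Γ.z_inj h).symm
  have hb : Function.Bijective fun e : Γ.E => Λ.lam e * Λ.bar (w * e * w⁻¹) := by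
    refine Function.Injective.bijective_of_nat_card_le (fun e e' h => Subtype.ext ?_) ?_
    · have he := mul_mem e.2 e'.2
      have : Λ.lam (e * e') * Λ.bar (w * (e * e') * w⁻¹) = 0 := by
        rw [Λ.lam_mul _ e.2 _ e'.2, ← conj_mul, Λ.bar_mul _ (m _ e.2) _ (m _ e'.2), add_mul, mul_add,
          mul_add, s _ e.2 _ e'.2, h]
        linear_combination (Λ.lam e' * Λ.bar (w * e' * w⁻¹) + Λ.lam e' * Λ.bar (w * e * w⁻¹)) *
          CharTwo.two_eq_zero (R := K hF)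
      have h0 : (e : G) * e' = 1 := (mul_eq_zero.1 this).elim (Λ.lam_inj _ he) fun h0 =>
        by_contra fun h2 => Γ.nf he h2 ((Λ.bar_eq_zero _ (m _ he)).1 h0)
      exact (eq_inv_of_mul_eq_one_left h0).trans (inv_eq_of_mul_eq_one_right (Γ.elE _ e'.2))
    · have := card_cj w Γ.B
      rw [h1, Λ.card_V1, Γ.card_B, pow_two] at this
      exact (card_K.trans (Nat.eq_of_mul_eq_mul_left (by have := Γ.four; omega) this)).le
  obtain ⟨b, rfl⟩ := Γ.mem_V.1 hv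
  obtain ⟨⟨e, he⟩, rfl⟩ := hb.2 b
  refine ⟨e * (w * e * w⁻¹), mul_mem (mem_sup_right he) (mem_sup_left (m e he)), ?_⟩
  rw [eq_mul_inv_iff_mul_eq.2 (Λ.cE _ (m e he) e he).symm]
  calc e * (w * e * w⁻¹) * w * (e * (w * e * w⁻¹))⁻¹
      = 1 * e * w * e * (w * e * w⁻¹)⁻¹ * e⁻¹ := by group
    _ = w * w * e * w⁻¹ * e * (w * e * w⁻¹)⁻¹ * e⁻¹ := by rw [hw, hi]
    _ = _ := by group

theorem big_swap (hd : Λ.d0 = 0) {y : G} (hη : y ∈ centralizer {Γ.η}) (h2 : ∃ k : ℕ, y ^ 2 ^ k = 1)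
    (h1 : y •ᶜ Γ.B = Λ.V1) (h1' : y •ᶜ Λ.V1 = Γ.B) : False := by
  have hq := Γ.four
  have hRη := Λ.R_le_cen.trans inf_le_right
  have hy : y ∈ normalizer (Λ.R : Set G) :=
    mem_normalizer_of_cj_le (by rw [Λ.bg_R, cj_sup, h1, h1', sup_comm])
  obtain ⟨k, hk⟩ := h2
  obtain ⟨P, hP, hle⟩ := exists_sylIn_ge (H := centralizer {Γ.η} ⊓ normalizer (Λ.R : Set G))
    (SylowAux.isPGroup_sup_zpowers Λ.pgroup_R hk hy)
    (sup_le (le_inf hRη le_normalizer) (zpowers_le.2 ⟨hη, hy⟩))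
  have hR : Λ.R ≤ P := le_sup_left.trans hle
  have hyP : y ∈ P := hle (mem_sup_right (mem_zpowers y))
  have hPη := hP.le.trans inf_le_left
  have hZ : P ≤ centralizer (Γ.V : Set G) := fun t ht => centralizer_le Γ.V_le_S (Γ.cen_of_η
    (Γ.normS Λ.B_le_R Λ.R_le_cen (hP.le ht).2) (isPGroup_iff_mem.1 hP.pgroup t ht)
    (mem_centralizer_singleton_iff.1 (hPη ht)).symm)
  have nb : ∀ t ∈ P, t •ᶜ Γ.B = Γ.B → t ∈ Λ.R := fun t ht e =>
    (Λ.inf_normalizer_B hP.pgroup hR hPη).le ⟨ht, mem_normalizer_of_cj_le e.le⟩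
  have sw : ∀ t ∈ P, t ∉ Λ.R → t •ᶜ Γ.B = Λ.V1 ∧ t •ᶜ Λ.V1 = Γ.B := fun t ht e =>
    (Λ.bg_perm hd (hP.le ht).2).resolve_left fun h => e (nb t ht h.1)
  have idx : ∀ T ≤ P, (∀ r ∈ T, r ∈ Λ.R → r ∈ Γ.V) → Γ.V.relIndex T ∣ 2 := fun T hT h => by
    by_cases e : T ≤ Λ.R
    · exact relIndex_dvd_two_iff.2 ⟨1, one_mem _, fun b hb => Or.inr (h b hb (e hb))⟩
    obtain ⟨a, ha, ha'⟩ := SetLike.not_le_iff_exists.1 e
    refine relIndex_dvd_two_iff.2 ⟨a, ha, fun b hb => or_iff_not_imp_right.2 fun hb' =>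
      h _ (mul_mem hb ha) (nb _ (hT (mul_mem hb ha)) ?_)⟩
    rw [cj_mul, (sw a (hT ha) ha').1, (sw b (hT hb) fun e => hb' (h b hb e)).2]
  have big : ∀ X ≤ P, (∀ x ∈ X, x * x = 1) → Nat.card X = q ^ 2 → X ≤ Λ.R := fun X hX h hc =>
    by_contra fun e => by
      obtain ⟨a, ha, ha'⟩ := SetLike.not_le_iff_exists.1 e
      have := (Bg.card_le (idx X hX fun r hr hr' => by
        have e1 : a * r * a⁻¹ = r := by rw [Sl.comm h ha hr, mul_inv_cancel_right]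
        rcases Λ.bg_or hd hr' (h r hr) with e2 | e2
        · exact Λ.bg_V1_inf_B e2 (e1 ▸ (sw a (hX ha) ha').2 ▸ conj_mem_cj e2)
        · exact Λ.bg_V1_inf_B (e1 ▸ (sw a (hX ha) ha').1 ▸ conj_mem_cj e2) e2)).trans
        (Nat.mul_le_mul_left 2 (card_le_of_le inf_le_left))
      rw [hc, Γ.card_V] at this
      nlinarith
  have hS : SylIn 2 P (centralizer {Γ.η}) := hP.of_normalizer_le hPη fun n hn =>
    ⟨hn.1, mem_normalizer_of_cj_le (by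
      conv_lhs => rw [Λ.bg_R, cj_sup]
      exact sup_le (big _ (cj_le_of_mem_normalizer (le_sup_left.trans hR) hn.2)
        (Bg.sq_cj (fun _ => Λ.bg_sq hd) n) ((card_cj _ _).trans Λ.card_V1))
        (big _ (cj_le_of_mem_normalizer (Λ.B_le_R.trans hR) hn.2) (Bg.sq_cj (fun _ => Γ.B_sq) n)
          (by rw [card_cj, ← card_cj y, h1, Λ.card_V1])))⟩
  have sq : ∀ w, Cj Γ.V (centralizer {Γ.η}) w → w * w = 1 := by
    rintro _ ⟨v, hv, g, -, rfl⟩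
    rw [conj_mul, Γ.V_sq hv, mul_one, mul_inv_cancel]
  have cjR : ∀ w ∈ Λ.R, Cj Γ.V (centralizer {Γ.η}) w → w ∈ Γ.V := fun w hw h => by
    refine (Λ.bg_or hd hw (sq w h)).elim (fun e => ?_) fun e => Λ.bg_not_cj e h
    obtain ⟨v, hv, g, hg, rfl⟩ := h
    exact (mem_normalizer_iff.1 (centralizer_le_normalizer _ (hZ hyP)) _).2
      (Λ.bg_not_cj (h1' ▸ conj_mem_cj e) ⟨v, hv, y * g, mul_mem hη hg, by group⟩)
  have hV : Γ.V ≤ P := Λ.le.trans (le_sup_left.trans hR)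
  have sc := scv hS hV hZ (fun _ => Γ.V_sq) (Γ.card_V.symm ▸ hq) (fun w hw e h v hv => by
      obtain ⟨a, ha, e1⟩ := Λ.bg_sw (sq w h) (hZ hw) (sw w hw fun e1 => e (cjR w e1 h)).1 hv
      exact ⟨a, hR ha, e1⟩)
    fun E₀ e1 _ e3 e4 => Bg.le_of_card (idx E₀ e1 fun r hr hr' => cjR r hr' (e4 r hr)) e3
  exact Λ.not_syl hRη inf_le_right (ncl_normal _ _) (ga_ab hS hV sc (Bg.comm
    (idx _ inf_le_left fun r hr hr' => ga_inv hS hV (fun x hx _ hy => Γ.V_comm hx (Γ.V_le_S hy)) sc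
      hr.1 hr.2 (Λ.bg_sq hd (Λ.bg_inf_le hS hR Λ.le sc ⟨hr', hr.2⟩))) (inf_le_left.trans hZ)))

theorem bg_fix (hd : Λ.d0 = 0) {n : G} (hη : n ∈ centralizer {Γ.η})
    (hn : n ∈ normalizer (Λ.R : Set G)) : n •ᶜ Γ.B = Γ.B ∧ n •ᶜ Λ.V1 = Λ.V1 := by
  refine (Λ.bg_perm hd hn).resolve_right fun h => ?_
  obtain ⟨k, hk⟩ := exists_pow_coprime (p := 2) n
  obtain ⟨j, hj⟩ := Nat.coprime_two_right.1 hk
  have e : ∀ X : Subgroup G, n •ᶜ n •ᶜ X = X → (n ^ (2 * j + 1)) •ᶜ X = n •ᶜ X := fun X h => by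
    rw [pow_succ', cj_mul, pow_mul, cj_eq_of_mem_normalizer
      (pow_mem (mem_normalizer_of_cj_le (by rw [pow_two, cj_mul, h])) j)]
  exact Λ.big_swap hd (pow_mem hη (2 * j + 1))
    ⟨k, by rw [← pow_mul, mul_comm, pow_mul, ← hj, pow_orderOf_eq_one]⟩
    ((e _ (by rw [h.1, h.2])).trans h.1) ((e _ (by rw [h.2, h.1])).trans h.2)

theorem bg_syl (hd : Λ.d0 = 0) : SylIn 2 Λ.R (centralizer {Γ.η}) :=
  SylIn.of_normalizer ⟨le_inf (Λ.R_le_cen.trans inf_le_right) le_normalizer, Λ.pgroup_R,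
    fun _ hT h1 h2 => (inf_eq_left.2 fun _ ht => mem_normalizer_of_cj_le
      (Λ.bg_fix hd (h2 ht).1 (h2 ht).2).1.le).symm.trans
      (Λ.inf_normalizer_B hT h1 (h2.trans inf_le_left))⟩

theorem bg_sc (hd : Λ.d0 = 0) : SCIn Λ.V1 Λ.R (centralizer {Γ.η}) := fun v hv x hx h => by
  refine by_contra fun hn => ?_
  obtain ⟨v', hv', e, he, e1⟩ := Γ.mem_B.1 ((Λ.bg_or hd h (by
    rw [conj_mul, Λ.bg_sq hd hv, mul_one, mul_inv_cancel])).resolve_left hn)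
  have h1 : e ≠ 1 := fun e2 => hn (by rw [← e1, e2, mul_one]; exact Λ.le hv')
  obtain ⟨x₁, hx₁, e2⟩ := Λ.exists_conj he h1 hv'
  have hg : x₁⁻¹ * x ∈ centralizer {Γ.η} := mul_mem (inv_mem (Λ.cη hx₁)) hx
  obtain ⟨c, hc, e3⟩ := (syl_B Γ).exists_conj_le (isPGroup_cj (x₁⁻¹ * x) Λ.pgroup_V1) (le_inf (by
    rw [← Γ.cen e he h1, show e = x₁⁻¹ * x * v * (x₁⁻¹ * x)⁻¹ by
      rw [show x₁⁻¹ * x * v * (x₁⁻¹ * x)⁻¹ = x₁⁻¹ * (x * v * x⁻¹) * x₁ by group, ← e1, ← e2]; group,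
      ← cj_centralizer_singleton]
    exact cj_mono _ fun w hw => mem_centralizer_singleton_iff.2 (Λ.comm w hw v hv))
    (cj_le_of_mem Λ.cη hg))
  rw [← cj_mul] at e3
  have e4 := eq_of_le_of_card_ge e3 (by
    rw [card_cj, Λ.card_V1, Γ.card_B, pow_two]; exact Nat.mul_le_mul_left q Λ.card_E_le)
  have hh := mul_mem hc.2 hg
  obtain ⟨b, hb, e5⟩ := (((Λ.bg_syl hd).cj_of_mem hh).inf_of_le (K := normalizer (Γ.B : Set G)) (by
    rw [← e4, ← cj_normalizer]; exact cj_mono _ Λ.bg_norV1)).exists_conj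
    ((Λ.bg_syl hd).inf_of_le Λ.bg_norB)
  rw [← cj_mul] at e5
  have e6 := (Λ.bg_fix hd (mul_mem hb.1 hh) (mem_normalizer_of_cj_le e5.le)).2
  rw [cj_mul, e4, cj_eq_of_mem_normalizer hb.2] at e6
  exact h1 (Λ.eq_one_of_mem he (e6 ▸ mem_sup_right he))

theorem big_zero (h4 : 4 ≤ Nat.card Γ.E) (hd : Λ.d0 = 0) : False := by
  have hP := Λ.bg_syl hd
  have sc := Λ.bg_sc hd
  have i1 := Λ.bg_inf_le hP le_rfl le_rfl sc
  have hL := ga_ab hP le_sup_left sc fun x hx y hy => Λ.comm x (i1 hx) y (i1 hy)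
  have nL := ncl_normal Λ.V1 (centralizer {Γ.η})
  have lL : ncl Λ.V1 (centralizer {Γ.η}) ≤ centralizer {Γ.η} := ncl_le_self Λ.cη
  have mL : ∀ X ≤ centralizer {Γ.η}, ncl Γ.V X ≤ ncl Λ.V1 (centralizer {Γ.η}) := fun X => ncl_mono Λ.le
  generalize ncl Λ.V1 (centralizer {Γ.η}) = L at *
  have hE : Γ.E ≤ centralizer {Γ.η} := le_sup_right.trans hP.le
  have hEV : Γ.E ≤ normalizer (Λ.V1 : Set G) := le_sup_right.trans Λ.bg_norV1
  have hEn : Γ.E ≤ normalizer (Γ.V : Set G) :=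
    le_sup_right.trans (Λ.bg_cenV.trans (centralizer_le_normalizer _))
  have nM : ∀ g ∈ centralizer {Γ.η}, g ∈ normalizer (Λ.V1 : Set G) →
      g ∈ normalizer ((L ⊓ normalizer (Λ.V1 : Set G) : Subgroup G) : Set G) := fun g h1 h2 =>
    mem_normalizer_of_cj_le (le_inf (cj_le_of_mem_normalizer inf_le_left (nL h1))
      (cj_le_of_mem inf_le_right h2))
  have hM : L ⊓ normalizer (Λ.V1 : Set G) ≤ normalizer (Γ.V : Set G) :=
    Bg.gen_mod Γ.elE h4 ((eq_bot_iff_forall _).2 fun e he => Λ.eq_one_of_mem he.2 he.1) hEV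
      (hL.inf_of_le le_normalizer) inf_le_right (fun e he => nM e (hE he) (hEV he))
      (le_sup_left.trans (Λ.bg_cenV.trans (centralizer_le_normalizer _))) fun e he h1 m hm h =>
      mem_normalizer_of_cj_le (cj_le_iff_forall.2 fun v hv => by
        have hv' := (mem_normalizer_iff.1 hm.2 v).1 (Λ.le hv)
        refine Λ.mem_V_of_C hv' (Γ.mem_C he h1 (mul_left_cancel (a := ⁅m, e⁆) ?_))
        rw [← mul_assoc, Λ.comm _ h _ hv', mul_assoc, ← mul_assoc ⁅m, e⁆, commutatorElement_def,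
          inv_mul_cancel_right, conj_mul, conj_mul, Γ.E_comm he (Γ.S_le_C (Γ.V_le_S hv))])
  have hX : L ⊔ Γ.C ⊓ centralizer {Γ.η} ≤ centralizer {Γ.η} := sup_le lL inf_le_right
  have hRX : Λ.R ≤ L ⊔ Γ.C ⊓ centralizer {Γ.η} := sup_le_sup hL.le (le_inf Γ.E_le_C hE)
  have hN : ∀ g ∈ L ⊔ Γ.C ⊓ centralizer {Γ.η}, g ∈ normalizer (Λ.V1 : Set G) →
      g ∈ normalizer (Γ.V : Set G) := fun g hg hg' => by
    obtain ⟨n, hn, y, hy, rfl⟩ := (hP.of_le (K := L ⊓ normalizer (Λ.V1 : Set G) ⊔ Γ.E)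
      (sup_le_sup_right (le_inf hL.le le_normalizer) _) (sup_le (inf_le_left.trans lL) hE)).frattini
      (x := g) (mem_normalizer_of_cj_le (by
        rw [cj_sup, cj_eq_of_mem_normalizer (nM g (hX hg) hg')]
        refine sup_le le_sup_left (cj_le_iff_forall.2 fun e he => ?_)
        rw [← inv_mul_cancel_right (g * e * g⁻¹) e]
        refine mul_mem_sup (mem_inf.2 ⟨?_, mul_mem (mul_mem (mul_mem hg' (hEV he)) (inv_mem hg'))
          (inv_mem (hEV he))⟩) he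
        obtain ⟨l, hl, c, hc, rfl⟩ := (mem_sup_of_normalizes_left (inf_le_right.trans nL)).1 hg
        rw [show l * c * e * (l * c)⁻¹ * e⁻¹ = l * (c * e * c⁻¹ * l⁻¹ * e⁻¹) by group,
          ← Γ.E_comm he hc.1, mul_inv_cancel_right]
        exact mul_mem hl ((mem_normalizer_iff.1 (nL (hE he)) _).1 (inv_mem hl))))
    exact mul_mem (sup_le hM hEn hn) (Γ.normalizer_S_le (Γ.normS Λ.B_le_R Λ.R_le_cen hy))
  have hPX := hP.of_le hRX hX
  exact Λ.not_syl hRX le_sup_right (ncl_normal _ _) (ga_ab hPX (Λ.le.trans le_sup_left)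
    (fun v hv x hx h => by
      obtain ⟨n, hn, e⟩ := Bg.control hPX le_sup_left (fun v hv x hx => sc v hv x (hX hx)) Λ.comm
        (Λ.le hv) hx (sc v (Λ.le hv) x (hX hx) h)
      exact e ▸ (mem_normalizer_iff.1 (hN n hn.1 hn.2) v).1 hv)
    fun x hx y hy => Λ.comm x (i1 ⟨hx.1, mL _ hX hx.2⟩) y (i1 ⟨hy.1, mL _ hX hy.2⟩))

theorem big (Λ : St1 Γ) (h4 : 4 ≤ Nat.card Γ.E) : False :=
  (em (Λ.d0 = 0)).elim (Λ.big_zero h4) (Λ.big_ne h4)

end St1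

end CL.St2
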