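import Cfsg.Agent.INV.STD2.PreL
import Cfsg.Agent.INV.STD2.Gen
import Cfsg.Agent.INV.R2.SwapP1
import Cfsg.Agent.S0058

/-!
# STD2/SuL1 : consequences of `Su`, first part.
-/

set_option autoImplicit false
open Cfsg Subgroup CL.MSS CL.PComp CL.Gold CL.SqField
open scoped commutatorElement

namespace CL.St2

universe u

variable {F : Type} [Field F] [Fintype F] [CharP F 2] {q : ℕ} {hF : Fintype.card F = q ^ 2}
  {G : Type u} [Group G] [Finite G]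

omit [Finite G] in
theorem Sl.comm {V : Subgroup G} (h : ∀ x ∈ V, x * x = 1) {x y : G} (hx : x ∈ V) (hy : y ∈ V) :
    x * y = y * x := by
  rw [← inv_eq_of_mul_eq_one_right (h _ (mul_mem hx hy)), mul_inv_rev,
    inv_eq_of_mul_eq_one_right (h x hx), inv_eq_of_mul_eq_one_right (h y hy)]

omit [Finite G] in
theorem Sl.pgroup {V : Subgroup G} (h : ∀ x ∈ V, x * x = 1) : IsPGroup 2 V :=
  isPGroup_iff_mem.2 fun g hg => ⟨1, by rw [pow_one, pow_two, h g hg]⟩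

omit [Finite G] in
theorem Sl.two {x : G} (h : x * x = 1) : ∃ k : ℕ, x ^ 2 ^ k = 1 := ⟨1, by rw [pow_one, pow_two, h]⟩

omit [Finite G] in
theorem Sl.cen_le {A B : Subgroup G} (h : A ≤ B) :
    centralizer (B : Set G) ≤ normalizer (A : Set G) :=
  (centralizer_le h).trans (centralizer_le_normalizer _)

namespace Su

variable (Γ : Su hF G)

omit [Finite G] in
theorem E_comm {e c : G} (he : e ∈ Γ.E) (hc : c ∈ Γ.C) : e * c = c * e := by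
  by_cases h1 : e = 1
  · rw [h1, one_mul, mul_one]
  · exact (mem_centralizer_singleton_iff.1 ((Γ.cen e he h1).ge hc)).symm

omit [Finite G] in
theorem mem_C {e x : G} (he : e ∈ Γ.E) (h1 : e ≠ 1) (h : x * e = e * x) : x ∈ Γ.C :=
  (Γ.cen e he h1).le (mem_centralizer_singleton_iff.2 h)

omit [Finite G] in
theorem cenE_le : centralizer (Γ.E : Set G) ≤ Γ.C := fun _ hx =>
  let ⟨e, h1⟩ := (Subgroup.ne_bot_iff_exists_ne_one).1 Γ.neE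
  Γ.mem_C e.2 (fun h => h1 (Subtype.ext h)) (hx e e.2).symm

omit [Finite G] in
theorem E_le_C : Γ.E ≤ Γ.C := fun _ hx => Γ.cenE_le fun _ hy => Sl.comm Γ.elE hy hx

omit [Finite G] in
theorem E_le_cen : Γ.E ≤ centralizer (Γ.C : Set G) := fun _ he _ hc => (Γ.E_comm he hc).symm

omit [Finite G] in
theorem C_le_cen : Γ.C ≤ centralizer (Γ.E : Set G) := fun _ hc _ he => Γ.E_comm he hc

omit [Finite G] in
theorem S_le_C : Γ.S ≤ Γ.C := Γ.S_le_A.trans Γ.AC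

omit [Finite G] in
theorem pgroup_E : IsPGroup 2 Γ.E := Sl.pgroup Γ.elE

theorem eq_one_of_mem_S {e : G} (he : e ∈ Γ.E) (hS : e ∈ Γ.A) : e = 1 :=
  Γ.eq_one_of_cen hS (centralizer_le Γ.AC (Γ.E_le_cen he)) (Sl.two (Γ.elE e he))

omit [Finite G] in
theorem mem_B {x : G} : x ∈ Γ.B ↔ ∃ v ∈ Γ.V, ∃ e ∈ Γ.E, v * e = x :=
  mem_sup_of_normalizes_left (Γ.E_le_cen.trans (Sl.cen_le (Γ.V_le_S.trans Γ.S_le_C)))

omit [Finite G] in
theorem mem_Q {x : G} : x ∈ Γ.Q ↔ ∃ y ∈ Γ.S, ∃ e ∈ Γ.E, y * e = x :=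
  mem_sup_of_normalizes_left (Γ.E_le_cen.trans (Sl.cen_le Γ.S_le_C))

omit [Finite G] in
theorem B_le_Q : Γ.B ≤ Γ.Q := sup_le_sup_right Γ.V_le_S _

omit [Finite G] in
theorem Q_le_N : Γ.Q ≤ Γ.N :=
  sup_le (le_inf Γ.S_le_C le_normalizer) (le_inf Γ.E_le_C (Γ.E_le_cen.trans (Sl.cen_le Γ.S_le_C)))

theorem pgroup_Q : IsPGroup 2 Γ.Q :=
  isPGroup_sup_of_normalizes' Γ.pgroup_S Γ.pgroup_E (Γ.E_le_cen.trans (Sl.cen_le Γ.S_le_C))

omit [Finite G] in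
theorem sl_sq {y e : G} (hy : y ∈ Γ.C) (he : e ∈ Γ.E) : y * e * (y * e) = y * y := by
  rw [mul_assoc, ← mul_assoc e, Γ.E_comm he hy, mul_assoc, Γ.elE e he, mul_one]

omit [Finite G] in
theorem sl_comm {y e c : G} (hc : c ∈ Γ.C) (he : e ∈ Γ.E) (h : c * (y * e) = y * e * c) :
    c * y = y * c := by
  rwa [mul_assoc y, Γ.E_comm he hc, ← mul_assoc, ← mul_assoc, mul_right_cancel_iff] at h

omit [Finite G] in
theorem B_sq {x : G} (hx : x ∈ Γ.B) : x * x = 1 := by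
  obtain ⟨v, hv, e, he, rfl⟩ := Γ.mem_B.1 hx
  rw [Γ.sl_sq (Γ.S_le_C (Γ.V_le_S hv)) he, Γ.V_sq hv]

theorem mem_B_of_sq {x : G} (hx : x ∈ Γ.Q) (h : x * x = 1) : x ∈ Γ.B := by
  obtain ⟨y, hy, e, he, rfl⟩ := Γ.mem_Q.1 hx
  rw [Γ.sl_sq (Γ.S_le_C hy) he] at h
  exact mul_mem_sup (Γ.mem_V_of_sq hy h) he

theorem sl_card {X : Subgroup G} (hX : X ≤ Γ.A) :
    Nat.card (X ⊔ Γ.E : Subgroup G) = Nat.card X * Nat.card Γ.E :=
  Small.card_sup_of_disjoint (Γ.E_le_cen.trans (Sl.cen_le (hX.trans Γ.AC)))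
    fun _ hx he => Γ.eq_one_of_mem_S he (hX hx)

theorem card_B : Nat.card Γ.B = q * Nat.card Γ.E := by
  rw [B, Γ.sl_card (Γ.V_le_S.trans Γ.S_le_A), Γ.card_V]

theorem card_Q : Nat.card Γ.Q = q ^ 3 * Nat.card Γ.E := by
  rw [Q, Γ.sl_card Γ.S_le_A, Γ.card_S]

theorem B_le_cen : Γ.B ≤ centralizer (Γ.S : Set G) ⊓ centralizer {Γ.η} :=
  sup_le (fun _ hv => ⟨fun _ hy => (Γ.V_comm hv hy).symm, by
      obtain ⟨b, rfl⟩ := Γ.mem_V.1 hv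
      exact mem_centralizer_singleton_iff.2 (Γ.η_z b).symm⟩)
    fun _ he => ⟨centralizer_le Γ.S_le_C (Γ.E_le_cen he),
      mem_centralizer_singleton_iff.2 (Γ.E_comm he (Γ.AC Γ.η_mem))⟩

theorem mem_B_of_η {x : G} (hx : x ∈ Γ.Q) (h : Γ.η * x = x * Γ.η) : x ∈ Γ.B := by
  obtain ⟨y, hy, e, he, rfl⟩ := Γ.mem_Q.1 hx
  exact mul_mem_sup (Γ.mem_V_of_η hy (Γ.sl_comm (Γ.AC Γ.η_mem) he h)) he

omit [Finite G] in
theorem mem_B_of_cen {x : G} (hx : x ∈ Γ.Q) (h : x ∈ centralizer (Γ.S : Set G)) : x ∈ Γ.B := by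
  obtain ⟨_, ⟨s, rfl⟩, e, he, rfl⟩ := Γ.mem_Q.1 hx
  refine mul_mem_sup ⟨s, mem_center_iff.2 fun s' => Γ.inj ?_, rfl⟩ he
  rw [map_mul, map_mul]
  exact Γ.sl_comm (Γ.S_le_C ⟨s', rfl⟩) he (h _ ⟨s', rfl⟩)

theorem mem_E_of_δ {k : (K hF)ˣ} (hk : k ≠ 1) {x : G} (hx : x ∈ Γ.Q)
    (h : Γ.δ k * x = x * Γ.δ k) : x ∈ Γ.E := by
  obtain ⟨y, hy, e, he, rfl⟩ := Γ.mem_Q.1 hx
  rwa [Γ.δ_fpf hk hy (Γ.sl_comm (Γ.AC (Γ.D_le_A ⟨k, rfl⟩)) he h), one_mul]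

theorem τ_mem_N (c : Fˣ) : Γ.τ c ∈ Γ.N := ⟨Γ.AC (Γ.τA c), Γ.τ_mem_normalizer c⟩

omit [Finite G] in
theorem C_le_normalizer_E : Γ.C ≤ normalizer (Γ.E : Set G) :=
  Γ.C_le_cen.trans (centralizer_le_normalizer _)

omit [Finite G] in
theorem N_le_normalizer_Q : Γ.N ≤ normalizer (Γ.Q : Set G) :=
  le_normalizer_sup inf_le_right (inf_le_left.trans Γ.C_le_normalizer_E)

theorem N_le_normalizer_B : Γ.N ≤ normalizer (Γ.B : Set G) :=
  le_normalizer_sup (inf_le_right.trans Γ.normalizer_S_le) (inf_le_left.trans Γ.C_le_normalizer_E)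

/-- TI: `C(e) = C = g C g⁻¹`, so `g E g⁻¹` consists of 2-elements of `C` centralizing `A`. -/
theorem ti_E {g e : G} (he : e ∈ Γ.E) (h1 : e ≠ 1) (h : g * e * g⁻¹ ∈ Γ.E) :
    g ∈ normalizer (Γ.E : Set G) := by
  have hC : g •ᶜ Γ.C = Γ.C := by
    conv_lhs => rw [← Γ.cen e he h1, cj_centralizer_singleton]
    exact Γ.cen _ h fun e => h1 (conj_eq_one_iff.1 e)
  refine mem_normalizer_of_cj_le (cj_le_iff_forall.2 fun x hx => Γ.two _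
    (hC.le (conj_mem_cj (Γ.E_le_C hx))) (centralizer_le Γ.AC ?_)
    (Sl.two (by rw [conj_mul, Γ.elE x hx, mul_one, mul_inv_cancel])))
  rw [← hC, ← cj_centralizer]
  exact conj_mem_cj (Γ.E_le_cen hx)

theorem cop_O : (Nat.card Γ.O).Coprime 2 := opOf_coprime 2 _

theorem odd_O : Odd (Nat.card Γ.O) := Nat.coprime_two_right.1 Γ.cop_O

omit [Finite G] in
theorem O_le : Γ.O ≤ Γ.C ⊓ centralizer (Γ.A : Set G) := opOf_le 2 _

omit [Finite G] in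
theorem O_le_cenS : Γ.O ≤ centralizer (Γ.S : Set G) :=
  (Γ.O_le.trans inf_le_right).trans (centralizer_le Γ.S_le_A)

omit [Finite G] in
theorem O_le_N : Γ.O ≤ Γ.N :=
  le_inf (Γ.O_le.trans inf_le_left) (Γ.O_le_cenS.trans (centralizer_le_normalizer _))

theorem C_le_normalizer_O : Γ.C ≤ normalizer (Γ.O : Set G) :=
  (le_normalizer_inf le_normalizer (le_normalizer_centralizer Γ.CN)).trans
    (normalizer_le_normalizer_opOf 2 _)

omit [Finite G] in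
theorem sl_le_E {R : Subgroup G} (hR : IsPGroup 2 R) (h : R ≤ Γ.C ⊓ centralizer (Γ.A : Set G)) :
    R ≤ Γ.E := fun x hx => Γ.two x (h hx).1 (h hx).2 (isPGroup_iff_mem.1 hR x hx)

/-- `E` is a central Sylow 2-subgroup of `C_C(A)`. -/
theorem exists_EO {x : G} (hx : x ∈ Γ.C) (hA : x ∈ centralizer (Γ.A : Set G)) :
    ∃ e ∈ Γ.E, ∃ o ∈ Γ.O, e * o = x := by
  have := le_opOf_sup_of_sylIn_central (p := 2) (U := Γ.E) (C := Γ.C ⊓ centralizer (Γ.A : Set G))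
    ⟨le_inf Γ.E_le_C (Γ.E_le_cen.trans (centralizer_le Γ.AC)), Γ.pgroup_E,
      fun _ hR h1 h2 => (Γ.sl_le_E hR h2).antisymm h1⟩
    (Γ.E_le_cen.trans (centralizer_le (inf_le_left (a := Γ.C)))) ⟨hx, hA⟩
  rw [sup_comm] at this
  exact (mem_sup_of_normalizes_right (Γ.E_le_C.trans Γ.C_le_normalizer_O)).1 this

omit [Finite G] in
theorem Q_le_cenO : Γ.Q ≤ centralizer (Γ.O : Set G) :=
  sup_le (le_centralizer_iff.1 Γ.O_le_cenS)
    (Γ.E_le_cen.trans (centralizer_le (Γ.O_le.trans inf_le_left)))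

theorem mem_QO {x : G} : x ∈ Γ.Q ⊔ Γ.O ↔ x ∈ Γ.C ∧ Γ.TW x := by
  constructor
  · intro hx
    obtain ⟨u, hu, o, ho, rfl⟩ := (mem_sup_of_normalizes_left (Γ.O_le_N.trans Γ.N_le_normalizer_Q)).1 hx
    refine ⟨mul_mem (Γ.Q_le_N hu).1 (Γ.O_le ho).1, Pre.TW.mul ?_ (Pre.tw_of_cen (Γ.O_le_cenS ho))⟩
    obtain ⟨y, hy, e, he, rfl⟩ := Γ.mem_Q.1 hu
    exact (Pre.tw_of_mem hy).mul (Pre.tw_of_cen (centralizer_le Γ.S_le_C (Γ.E_le_cen he)))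
  · rintro ⟨hx, h⟩
    obtain ⟨y, hy, hc⟩ := h.exists_cen (Γ.CN hx)
    obtain ⟨e, he, o, ho, e'⟩ := Γ.exists_EO (mul_mem (inv_mem (Γ.S_le_C hy)) hx) hc
    rw [← mul_inv_cancel_left y x, ← e', ← mul_assoc]
    exact mul_mem_sup (mul_mem_sup hy he) ho

theorem tw_of_Q {x : G} (hx : x ∈ Γ.Q) : Γ.TW x := (Γ.mem_QO.1 (mem_sup_left hx)).2

theorem mem_Q_of_tw {x : G} (hx : x ∈ Γ.C) (h : Γ.TW x) (h2 : ∃ k : ℕ, x ^ 2 ^ k = 1) : x ∈ Γ.Q :=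
  mem_of_mem_sup_of_le_normalizer (Γ.O_le_N.trans Γ.N_le_normalizer_Q) Γ.cop_O
    (Γ.mem_QO.2 ⟨hx, h⟩) h2.choose_spec

/-- `O` is characteristic in `Q O = Q × O` -/
theorem normalizer_QO_le : normalizer ((Γ.Q ⊔ Γ.O : Subgroup G) : Set G) ≤
    normalizer (Γ.O : Set G) ⊓ normalizer (Γ.Q : Set G) := fun g hg => by
  have hn := Γ.O_le_N.trans Γ.N_le_normalizer_Q
  refine ⟨mem_normalizer_of_cj_le fun x hx => ?_, mem_normalizer_of_cj_le fun x hx => ?_⟩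
  · obtain ⟨u, hu, o, ho, rfl⟩ := (mem_sup_of_normalizes_left hn).1
      (cj_le_of_mem_normalizer le_sup_right hg hx)
    have h1 : (orderOf (u * o)).Coprime 2 :=
      ((card_cj g Γ.O).symm ▸ Γ.cop_O :).coprime_dvd_left (orderOf_dvd_natCard _ hx)
    have h2 := pow_orderOf_eq_one (u * o)
    rw [(show Commute u o from (Γ.Q_le_cenO hu o ho).symm).mul_pow, mul_eq_one_iff_eq_inv] at h2
    have h3 := eq_one_of_coprime_of_mem Γ.pgroup_Q (Γ.cop_O.coprime_dvd_left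
      (orderOf_dvd_natCard _ (h2 ▸ inv_mem (pow_mem ho _)))) (pow_mem hu _)
    rwa [eq_one_of_coprime_of_mem Γ.pgroup_Q (h1.coprime_dvd_left (orderOf_dvd_of_pow_eq_one h3)) hu,
      one_mul]
  · exact mem_of_mem_sup_of_le_normalizer hn Γ.cop_O (cj_le_of_mem_normalizer le_sup_left hg hx)
      (isPGroup_iff_mem.1 (isPGroup_cj g Γ.pgroup_Q) x hx).choose_spec

/-- `CL.thompson_p_times_q` for `E × O` -/
theorem le_cenO {P : Subgroup G} (hP : IsPGroup 2 P) (hE : Γ.E ≤ normalizer (P : Set G))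
    (hO : Γ.O ≤ normalizer (P : Set G)) (h : P ⊓ Γ.C ≤ Γ.Q) : P ≤ centralizer (Γ.O : Set G) :=
  thompson_p_times_q Γ.E Γ.O P Γ.pgroup_E Γ.cop_O hP (le_sup_right.trans Γ.Q_le_cenO) hE hO
    (((inf_le_inf_left _ Γ.cenE_le).trans h).trans Γ.Q_le_cenO)

/-- `c S c⁻¹ = a S a⁻¹` contains `V`, so `a ∈ N(S)` by `ti` -/
theorem mem_N_of_V {c : G} (hc : c ∈ Γ.C) {v : G} (hv : v ∈ Γ.V) (h1 : v ≠ 1)
    (h : c * v * c⁻¹ ∈ Γ.S) : c ∈ Γ.N := by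
  obtain ⟨a, ha, e⟩ := Γ.syl.exists_conj (Γ.syl.cj_of_mem_normalizer (Γ.CN hc))
  obtain ⟨x, hx, e'⟩ := mem_cj'.1 (e.ge (conj_mem_cj (Γ.V_le_S hv)))
  refine ⟨hc, mem_normalizer_iff_cj.2 (e.symm.trans (cj_eq_of_mem_normalizer
    (Γ.ti a ha x hx (fun e => h1 ?_) (e' ▸ h))))⟩
  rwa [e, mul_one, mul_inv_cancel, eq_comm, conj_eq_one_iff] at e'

omit [Finite G] in
theorem comm_QN : ⁅Γ.Q, Γ.N⁆ ≤ Γ.S := commutator_le.2 fun x hx c hc => by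
  obtain ⟨y, hy, e, he, rfl⟩ := Γ.mem_Q.1 hx
  rw [show ⁅y * e, c⁆ = y * (e * c * e⁻¹ * y⁻¹ * c⁻¹) by group, Γ.E_comm he hc.1,
    mul_inv_cancel_right]
  exact mul_mem hy ((mem_normalizer_iff.1 hc.2 _).1 (inv_mem hy))

/-- normS. -/
theorem normS {Z : Subgroup G} (hB : Γ.B ≤ Z)
    (hZ : Z ≤ centralizer (Γ.S : Set G) ⊓ centralizer {Γ.η}) :
    normalizer (Z : Set G) ≤ normalizer (Γ.S : Set G) := fun n hn => by
  have h1 : centralizer (Z : Set G) ≤ Γ.N := fun c hc => by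
    obtain ⟨v, hv⟩ := (Subgroup.ne_bot_iff_exists_ne_one).1 Γ.V_ne_bot
    refine Γ.mem_N_of_V (Γ.cenE_le (centralizer_le (show Γ.E ≤ Z from le_sup_right.trans hB) hc)) v.2
      (fun h => hv (Subtype.ext h)) ?_
    rw [← hc v (hB (mem_sup_left v.2)), mul_inv_cancel_right]
    exact Γ.V_le_S v.2
  have h2 : Γ.η ∈ centralizer (Z : Set G) := fun z hz => mem_centralizer_singleton_iff.1 (hZ hz).2
  have h3 : Γ.S ≤ pCoreOf 2 (centralizer (Z : Set G)) :=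
    le_oP Γ.pgroup_S (le_centralizer_iff.1 (hZ.trans inf_le_left)) (h1.trans inf_le_right)
  have h4 : pCoreOf 2 (centralizer (Z : Set G)) ≤ Γ.Q := fun x hx =>
    Γ.mem_Q_of_tw (h1 (oP_le _ hx)).1 (Γ.tw_of_η ((oP_le _).trans (h1.trans inf_le_right))
      (oP_isPGroup _) (oP_normal _ h2) hx) (isPGroup_iff_mem.1 (oP_isPGroup _) x hx)
  have h5 := normalizer_le_normalizer_centralizer Z hn
  refine mem_normalizer_of_cj_le ?_
  conv_lhs => rw [← Γ.comm_S_η, cj_commutator]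
  exact (commutator_mono ((cj_le_of_mem_normalizer h3 (normalizer_le_normalizer_oP _ h5)).trans h4)
    ((cj_le_of_mem_normalizer (zpowers_le.2 h2) h5).trans h1)).trans Γ.comm_QN

end Su

end CL.St2
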